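import Cfsg.Agent.Lib.M24Elt.Classes

/-!
Certificates used to identify the subgroups of M24 of index 253, 276, 759 and 1771: a Sylow
2-subgroup, words in its generators, and elements of order 5, 7 and 11.
-/

set_option autoImplicit false

namespace CfsgLib.M24Index.Data

open Cfsg CfsgLib.Golay

/-- An element of order 5. -/
def rep5 : ℕ := 566071539906102887973192850685833891962579598208722403331
/-- An element of order 7. -/
def rep7 : ℕ := 564059782930572290688259218295898620760353045690246760211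
/-- An element of order 11. -/
def rep11 : ℕ := 124615549533319348019024471693918209259868484030553265681

/-- The classes of the point stabiliser of the Sylow subgroup at a point of its octad. -/
def piece1 (y : GolayPt) : Fin 5 := Fin.ofNat 5 (([4, 0, 4, 2, 3, 2, 4, 1, 4, 4, 4, 4, 4, 4, 3, 4, 4, 4, 3, 4, 3, 4, 4, 4] : List ℕ).getD (bit y) 0)
/-- Representatives of these classes. -/
def root1 (i : Fin 5) : GolayPt := Golay.pt (([1, 7, 3, 4, 0] : List ℕ).getD i.val 0)
/-- The classes of the point stabiliser of the Sylow subgroup at a point outside its octad. -/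
def piece0 (y : GolayPt) : Fin 6 := Fin.ofNat 6 (([0, 4, 3, 4, 4, 4, 5, 4, 5, 3, 5, 5, 5, 2, 4, 3, 5, 5, 4, 2, 4, 3, 1, 5] : List ℕ).getD (bit y) 0)
/-- Representatives of these classes. -/
def root0 (i : Fin 6) : GolayPt := Golay.pt (([0, 22, 13, 2, 1, 6] : List ℕ).getD i.val 0)
/-- The cycles of the element of order 11. -/
def piece11 (y : GolayPt) : Fin 4 := Fin.ofNat 4 (([2, 3, 3, 3, 2, 2, 3, 2, 2, 0, 2, 2, 3, 3, 3, 3, 1, 2, 3, 2, 2, 3, 3, 2] : List ℕ).getD (bit y) 0)
/-- Representatives of these cycles. -/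
def root11 (i : Fin 4) : GolayPt := Golay.pt (([9, 16, 0, 1] : List ℕ).getD i.val 0)
/-- Exponents carrying the representatives along the cycles. -/
def expTable : List ℕ := [0, 0, 4, 6, 8, 5, 5, 10, 9, 0, 3, 7, 3, 9, 8, 7, 0, 1, 10, 2, 6, 2, 1, 4]

/-- Words moving the base point inside the octad. -/
def move1 : List (List ℕ) := [[], [], [], [3], [0, 1, 0], [1, 0], [], [1, 1], [], [], [], [], [], [], [2, 1], [], [], [], [0], [], [1], [], [], []]
/-- Words moving the base point outside the octad. -/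
def move0 : List (List ℕ) := [[], [], [1, 0], [], [], [], [0, 2, 1], [], [2, 3], [0], [2, 1, 0], [2, 1], [0, 2], [1], [], [0, 1], [1, 2], [2, 0], [], [0, 3], [], [3], [3, 3], [2]]
/-- Words fixing the inner base point. -/
def word1 : List (List ℕ) := [[], [], [0, 0, 3], [], [], [2], [3, 0, 2, 1], [], [3, 2, 3], [2, 2], [2, 0, 0, 3], [2, 3, 1, 0], [3, 2, 0, 0], [3, 1, 0], [0, 2, 0], [0, 1], [2, 0, 1], [0, 2, 0], [2], [1, 0, 1, 0], [2, 2], [1, 2, 2, 1], [2, 0, 2, 0], [2]]
/-- Words fixing the outer base point. -/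
def word0 : List (List ℕ) := [[], [], [], [3, 2, 2], [3, 1, 1, 0], [0, 3, 1], [], [1, 1], [3, 2, 2], [3, 0], [1, 0, 0], [0, 3, 0, 0], [3, 0], [], [0, 3, 0, 0], [1, 0, 0], [0, 3, 1], [3, 3, 0, 1, 0], [1, 0, 0], [3, 0], [3, 0], [0, 3, 0, 0], [], [1, 1]]

end CfsgLib.M24Index.Data
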