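import Cfsg.Agent.Lib.M24Index.Tools
import Cfsg.Agent.Lib.M24Index.Data
import Cfsg.Agent.Lib.M24Elt.Classes
import Cfsg.Agent.Lib.M24Stab.Octad
import Cfsg.Agent.Lib.M24Stab.Sextet

/-!
The Sylow 2-subgroup of M24 used for the subgroups of odd index, and words in its generators.
-/

set_option autoImplicit false

namespace CfsgLib.M24Index

open Cfsg CfsgLib.Golay CfsgLib.M24Elt CfsgLib.Comp
open scoped Pointwise

/-- The Sylow 2-subgroup. -/
noncomputable abbrev syl : Subgroup (Equiv.Perm GolayPt) := spanPts ClassData.syl2Gens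

theorem syl_le : syl ≤ M24 := spanPts_le_M24 gens_goods.1

theorem card_syl : Nat.card syl = 1024 := (card_spanPts _).trans ClassData.syl2_card

/-- A generator code. -/
def gcode (i : ℕ) : ℕ := ClassData.syl2Gens.getD (i % 4) 0

theorem gcode_mem : ∀ j : Fin 4, ClassData.syl2Gens.getD j.val 0 ∈ ClassData.syl2Gens := by
  decide +kernel

theorem gcode_good : ∀ j : Fin 4, good (ClassData.syl2Gens.getD j.val 0) = true := by
  decide +kernel

theorem gcode_ok (i : ℕ) : PermCode.Ok 24 (gcode i) :=
  good_ok (gcode_good ⟨i % 4, Nat.mod_lt _ (by norm_num)⟩)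

theorem gcode_syl (i : ℕ) : pm (gcode i) ∈ syl :=
  pm_mem_spanPts (gcode_mem ⟨i % 4, Nat.mod_lt _ (by norm_num)⟩)

attribute [local irreducible] gcode

/-- The code of a word. -/
noncomputable def wcode (w : List ℕ) : ℕ :=
  w.foldr (fun i a => PermCode.mul 24 (gcode i) a) (PermCode.one 24)

theorem wcode_spec (w : List ℕ) : PermCode.Ok 24 (wcode w) ∧ pm (wcode w) ∈ syl := by
  induction w with
  | nil => exact ⟨ok_code_one, by rw [wcode, List.foldr_nil, pm_one]; exact Subgroup.one_mem _⟩
  | cons i w ih =>
    have e : wcode (i :: w) = PermCode.mul 24 (gcode i) (wcode w) := List.foldr_cons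
    refine ⟨e ▸ ok_pm_mul (gcode_ok i) ih.1, ?_⟩
    rw [e, pm_mul (gcode_ok i) ih.1]
    exact mul_mem (gcode_syl i) ih.2

/-- The map of a word. -/
noncomputable def wfun (w : List ℕ) (x : GolayPt) : GolayPt :=
  Golay.pt (PermCode.get (wcode w) (bit x))

theorem wfun_eq (w : List ℕ) (x : GolayPt) : pm (wcode w) x = wfun w x := by
  rw [wfun, ← bit_pm (wcode_spec w).1, pt_bit]

theorem smul_eq_image (w : List ℕ) (s : Finset GolayPt) :
    pm (wcode w) • s = s.image (wfun w) := by
  rw [Finset.smul_finset_def]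
  exact Finset.image_congr fun x _ => wfun_eq w x

/-- An element of the Sylow subgroup from a table of words. -/
noncomputable def elt (t : List (List ℕ)) (y : GolayPt) : Equiv.Perm GolayPt :=
  pm (wcode (t.getD (bit y) []))

theorem elt_mem (t : List (List ℕ)) (y : GolayPt) : elt t y ∈ syl := (wcode_spec _).2

/-- The image map from a table of words. -/
noncomputable def eltFun (t : List (List ℕ)) (y x : GolayPt) : GolayPt := wfun (t.getD (bit y) []) x

theorem elt_apply (t : List (List ℕ)) (y x : GolayPt) : elt t y x = eltFun t y x := wfun_eq _ x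

theorem elt_smul (t : List (List ℕ)) (y : GolayPt) (s : Finset GolayPt) :
    elt t y • s = s.image (eltFun t y) := smul_eq_image _ s

/-- The base point inside the octad. -/
def P1 : GolayPt := Golay.pt 1

/-- The base point outside the octad. -/
def P0 : GolayPt := Golay.pt 0

/-- A set of points given by bit positions. -/
def ofBits (l : List ℕ) : Finset GolayPt := Finset.univ.filter fun y => bit y ∈ l

/-- The octad fixed by the Sylow subgroup. -/
def O1 : Finset GolayPt := ofBits [1, 3, 4, 5, 7, 14, 18, 20]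

/-- The second octad of the trio. -/
def O2 : Finset GolayPt := ofBits [0, 2, 9, 13, 15, 19, 21, 22]

/-- The third octad of the trio. -/
def O3 : Finset GolayPt := ofBits [6, 8, 10, 11, 12, 16, 17, 23]

/-- The tetrad at the inner base point. -/
def T1 : Finset GolayPt := ofBits [1, 3, 5, 7]

/-- The tetrad at the outer base point. -/
def T0 : Finset GolayPt := ofBits [0, 13, 19, 22]

theorem syl_O1 {s : Equiv.Perm GolayPt} (hs : s ∈ syl) : s • O1 = O1 := by
  have h : syl ≤ MulAction.stabilizer (Equiv.Perm GolayPt) O1 := by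
    refine spanPts_le fun c hc => ?_
    rw [MulAction.mem_stabilizer_iff]
    obtain ⟨i, hi, rfl⟩ := List.mem_iff_getElem.1 hc
    have key : ∀ j : Fin 4, ∀ x : GolayPt, x ∈ O1 →
        Golay.pt (PermCode.get (ClassData.syl2Gens.getD j.val 0) (bit x)) ∈ O1 := by decide +kernel
    have hlen : ClassData.syl2Gens.length = 4 := rfl
    have e : ClassData.syl2Gens.getD i 0 = ClassData.syl2Gens[i] := List.getD_eq_getElem _ _ hi
    refine Finset.eq_of_subset_of_card_le (fun y hy => ?_) (Finset.card_smul_finset _ _).ge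
    obtain ⟨x, hx, rfl⟩ := Finset.mem_smul_finset.1 hy
    rw [← e, Equiv.Perm.smul_def, ← pt_bit (pm _ x),
      bit_pm (good_ok (gcode_good ⟨i, hlen ▸ hi⟩))]
    exact key ⟨i, hlen ▸ hi⟩ x hx
  exact MulAction.mem_stabilizer_iff.1 (h hs)

theorem fix_of_five {g : Equiv.Perm GolayPt} (hg : g ∈ M24) (h : orderOf g = 5) : fixCard g = 4 :=
  haveI : Fact (Nat.Prime 5) := ⟨by norm_num⟩
  fixCard_of_order (c := Data.rep5) (by decide +kernel) (by decide +kernel) (by decide +kernel)
    (by decide +kernel) (by norm_num) hg h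

theorem fix_of_seven {g : Equiv.Perm GolayPt} (hg : g ∈ M24) (h : orderOf g = 7) : fixCard g = 3 :=
  haveI : Fact (Nat.Prime 7) := ⟨by norm_num⟩
  fixCard_of_order (c := Data.rep7) (by decide +kernel) (by decide +kernel) (by decide +kernel)
    (by decide +kernel) (by norm_num) hg h

end CfsgLib.M24Index
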