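import Cfsg.Agent.Lib.M24Index.Common

/-!
Subgroups of M24 of index 276 containing an element of order 11.
-/

set_option autoImplicit false

namespace CfsgLib.M24Index

open Cfsg CfsgLib.Golay CfsgLib.M24Elt CfsgLib.Comp
open scoped Pointwise

/-- The first fixed point of the element of order 11. -/
def A : GolayPt := Golay.pt 9

/-- The second fixed point of the element of order 11. -/
def B : GolayPt := Golay.pt 16

/-- The exponent at a point. -/
def expAt (y : GolayPt) : ℕ := Data.expTable.getD (bit y) 0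

/-- Sizes of the cycles. -/
def sz11 : Fin 4 → ℕ := ![1, 1, 11, 11]

/-- The pair as a union of cycles. -/
def b11 : Fin 4 → Bool := ![true, true, false, false]

theorem piece11_facts : (∀ i, Data.piece11 (Data.root11 i) = i) ∧
    (∀ i, (Finset.univ.filter fun y => Data.piece11 y = i).card = sz11 i) ∧
    (∀ y, Data.piece11 y = 0 → y = A) ∧ (∀ y, Data.piece11 y = 1 → y = B) := by
  decide +kernel

theorem piece11_AB : Data.piece11 A = 0 ∧ Data.piece11 B = 1 ∧ A ≠ B ∧
    ∀ y, y ∈ ({A, B} : Finset GolayPt) ↔ b11 (Data.piece11 y) = true := by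
  decide +kernel

theorem exp_check : ∀ y, Golay.pt (PermCode.get (powc Data.rep11 (expAt y))
    (bit (Data.root11 (Data.piece11 y)))) = y := by
  decide +kernel

theorem rep11_good : good Data.rep11 = true ∧
    Golay.pt (PermCode.get Data.rep11 (bit A)) = A := by
  decide +kernel

theorem pm_rep11_apply_root (y : GolayPt) :
    (pm Data.rep11 ^ expAt y) (Data.root11 (Data.piece11 y)) = y := by
  have hok := good_ok rep11_good.1
  rw [← pm_powc hok, ← pt_bit (pm (powc Data.rep11 (expAt y)) _), bit_pm (powc_ok hok _)]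
  exact exp_check y

theorem pm_rep11_A : pm Data.rep11 A = A := by
  rw [← pt_bit (pm Data.rep11 A), bit_pm (good_ok rep11_good.1)]
  exact rep11_good.2

set_option maxRecDepth 4000 in
theorem cases_whole : ∀ c : Fin 4 → Fin 4, (∀ i, c i ≤ i) → (∀ i, c (c i) = c i) →
    (∀ j, c j = j → classSize sz11 c j ∣ 887040) → ∑ j, classSize sz11 c j % 7 ≤ 3 →
    (∀ i j, c i = c j → b11 i = b11 j) ∨ ∀ i, c i = 0 := by
  decide +kernel

set_option maxRecDepth 4000 in
theorem cases_point : ∀ c : Fin 4 → Fin 4, (∀ i, c i ≤ i) → (∀ i, c (c i) = c i) →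
    (∀ i, c i = 0 → i = 0) →
    (∀ j, c j = j → classSize sz11 c j ∣ 36960) → ∑ j, classSize sz11 c j % 7 ≤ 3 →
    ∀ i, c i = 1 ↔ i = 1 := by
  decide +kernel

theorem card_eq_24_mul {K : Subgroup (Equiv.Perm GolayPt)} {p : GolayPt}
    (htr : ∀ y, ∃ k ∈ K, k p = y) : Nat.card K = 24 * Nat.card (fixPts K [p]) := by
  have h := card_fixPts_step (H := K) (l := []) (b := p) (Δ := Finset.univ)
    (fun g _ => Finset.mem_univ _) (fun x _ => by
      obtain ⟨k, hk, e⟩ := htr x
      exact ⟨k, by rw [fixPts_nil]; exact hk, e⟩)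
  rw [fixPts_nil, Finset.card_univ] at h
  simpa [GolayPt] using h

theorem not_transitive {K : Subgroup (Equiv.Perm GolayPt)} (hK : K ≤ M24)
    (hr : pm Data.rep11 ∈ K) (hcard : Nat.card K = 887040) (htr : ∀ y, ∃ k ∈ K, k A = y) :
    False := by
  have hKA : Nat.card (fixPts K [A]) = 36960 := by have := card_eq_24_mul htr; omega
  obtain ⟨k0, hk0, e0⟩ := htr B
  have hKB : Nat.card (fixPts K [B]) = 36960 := by
    have := card_eq_24_mul (p := B) fun y => by
      obtain ⟨k, hk, e⟩ := htr y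
      exact ⟨k * k0⁻¹, mul_mem hk (inv_mem hk0), by
        rw [Equiv.Perm.mul_apply, Equiv.Perm.inv_def, ← e0, Equiv.symm_apply_apply, e]⟩
    omega
  obtain ⟨hroot, hsz, hzero, hone⟩ := piece11_facts
  obtain ⟨hA, hB, hAB, -⟩ := piece11_AB
  have hrA : pm Data.rep11 ∈ fixPts K [A] := mem_fixPts.2 ⟨hr, fun z hz => by
    rw [List.mem_singleton.1 hz, pm_rep11_A]⟩
  obtain ⟨c, hle, hidem, hc⟩ := exists_pattern (fixPts K [A]) Data.piece11 Data.root11 hroot
    fun y => ⟨_, pow_mem hrA (expAt y), pm_rep11_apply_root y⟩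
  have hz : ∀ i, c i = 0 → i = 0 := fun i hi => by
    obtain ⟨k, hk, e⟩ := (hc (Data.root11 i) A).2 (by
      rw [hroot, hA, hi]; exact (Fin.le_zero_iff.1 (hle 0)).symm)
    have : Data.root11 i = A := k.injective (e.trans ((mem_fixPts.1 hk).2 A (by simp)).symm)
    rw [← hroot i, this, hA]
  have : Fact (Nat.Prime 7) := ⟨by norm_num⟩
  obtain ⟨g, hg, hord⟩ := exists_of_order (L := fixPts K [A]) (p := 7) (by rw [hKA]; norm_num)
  have hgK := (mem_fixPts.1 hg).1
  have hF := fix_of_seven (hK hgK) hord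
  obtain ⟨hd, hs⟩ := pattern_facts hroot hsz hc hKA hg (hord ▸ pow_orderOf_eq_one g) hF
  have hcl := cases_point c hle hidem hz hd hs
  have hfixB : ∀ k ∈ fixPts K [A], k B = B := fun k hk => by
    have h := (hc B (k B)).1 ⟨k, hk, rfl⟩
    rw [hB, (hcl 1).2 rfl] at h
    exact hone _ ((hcl _).1 h.symm)
  have heq : fixPts K [A] = fixPts K [B] := Subgroup.eq_of_le_of_card_ge
    (fun k hk => mem_fixPts.2 ⟨(mem_fixPts.1 hk).1, fun z hz => by
      rw [List.mem_singleton.1 hz, hfixB k hk]⟩) (by rw [hKA, hKB])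
  have hfixA : ∀ k ∈ K, k B = B → k A = A := fun k hk h => by
    have hm : k ∈ fixPts K [B] := mem_fixPts.2 ⟨hk, fun z hz => by rw [List.mem_singleton.1 hz, h]⟩
    rw [← heq] at hm
    exact (mem_fixPts.1 hm).2 A (by simp)
  have hk0B : k0 B = A := by
    have hfix : ∀ l ∈ fixPts K [A], l (k0 B) = k0 B := fun l hl => by
      have hm : k0⁻¹ * (l * k0) ∈ fixPts K [A] := mem_fixPts.2
        ⟨mul_mem (inv_mem hk0) (mul_mem (mem_fixPts.1 hl).1 hk0), fun z hz => by
          rw [List.mem_singleton.1 hz, Equiv.Perm.mul_apply, Equiv.Perm.inv_def,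
            Equiv.symm_apply_eq, Equiv.Perm.mul_apply, e0, hfixB l hl]⟩
      have h := hfixB _ hm
      rwa [Equiv.Perm.mul_apply, Equiv.Perm.inv_def, Equiv.symm_apply_eq, Equiv.Perm.mul_apply] at h
    have hne : k0 B ≠ B := fun h => hAB (k0.injective (e0.trans h.symm))
    rcases (fin_four (Data.piece11 (k0 B))) with h | h | h
    · exact hzero _ h
    · exact absurd (hone _ h) hne
    · exfalso
      obtain ⟨z, hz2, hne2⟩ := two_in_big (k0 B) h
      obtain ⟨k, hk, e⟩ := pow_witness hrA hz2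
      exact hne2 (e.symm.trans (hfix k hk))
  obtain ⟨x, hx, hxA, hxB⟩ : ∃ x, g x = x ∧ x ≠ A ∧ x ≠ B := by
    by_contra hcon
    push Not at hcon
    have : fixCard g ≤ ({A, B} : Finset GolayPt).card := Finset.card_le_card fun y hy => by
      rw [Finset.mem_insert, Finset.mem_singleton]
      by_cases h : y = A
      · exact Or.inl h
      · exact Or.inr (hcon y (Finset.mem_filter.1 hy).2 h)
    rw [hF, Finset.card_pair hAB] at this
    omega
  obtain ⟨k, hk, ek⟩ := htr x
  have hgkB : g (k B) = k B := by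
    have hm : k⁻¹ * (g * k) ∈ fixPts K [A] := mem_fixPts.2
      ⟨mul_mem (inv_mem hk) (mul_mem hgK hk), fun z hz => by
        rw [List.mem_singleton.1 hz, Equiv.Perm.mul_apply, Equiv.Perm.inv_def, Equiv.symm_apply_eq,
          Equiv.Perm.mul_apply, ek, hx]⟩
    have h := hfixB _ hm
    rwa [Equiv.Perm.mul_apply, Equiv.Perm.inv_def, Equiv.symm_apply_eq, Equiv.Perm.mul_apply] at h
  have h1 : k B ≠ A := fun h => hxB (by
    have hkB : (k0⁻¹ * k) B = B := by
      rw [Equiv.Perm.mul_apply, Equiv.Perm.inv_def, Equiv.symm_apply_eq, h, hk0B]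
    have := hfixA _ (mul_mem (inv_mem hk0) hk) hkB
    rw [Equiv.Perm.mul_apply, Equiv.Perm.inv_def, Equiv.symm_apply_eq, e0] at this
    exact ek.symm.trans this)
  have h2 : k B ≠ B := fun h => hxA (ek.symm.trans (hfixA k hk h))
  have h3 : k B ≠ x := fun h => hAB (k.injective (ek.trans h.symm))
  have h4 : ({A, B, x, k B} : Finset GolayPt).card ≤ fixCard g := by
    refine Finset.card_le_card fun y hy => Finset.mem_filter.2 ⟨Finset.mem_univ _, ?_⟩
    simp only [Finset.mem_insert, Finset.mem_singleton] at hy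
    rcases hy with rfl | rfl | rfl | rfl
    exacts [(mem_fixPts.1 hg).2 A (by simp), hfixB g hg, hx, hgkB]
  rw [hF, Finset.card_insert_of_notMem (by simp [hAB, Ne.symm hxA, Ne.symm h1]),
    Finset.card_insert_of_notMem (by simp [Ne.symm hxB, Ne.symm h2]),
    Finset.card_pair (Ne.symm h3)] at h4
  omega
where
  fin_four (i : Fin 4) : i = 0 ∨ i = 1 ∨ 2 ≤ i := by
    revert i; decide
  two_in_big (y : GolayPt) (h : 2 ≤ Data.piece11 y) :
      ∃ z, Data.piece11 z = Data.piece11 y ∧ z ≠ y := by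
    revert y; decide +kernel
  pow_witness {K' : Subgroup (Equiv.Perm GolayPt)} (hrA : pm Data.rep11 ∈ fixPts K' [A])
      {y z : GolayPt} (h : Data.piece11 z = Data.piece11 y) : ∃ k ∈ fixPts K' [A], k y = z := by
    refine ⟨pm Data.rep11 ^ expAt z * (pm Data.rep11 ^ expAt y)⁻¹,
      mul_mem (pow_mem hrA _) (inv_mem (pow_mem hrA _)), ?_⟩
    have e : (pm Data.rep11 ^ expAt y)⁻¹ y = Data.root11 (Data.piece11 y) := by
      rw [Equiv.Perm.inv_def, Equiv.symm_apply_eq, pm_rep11_apply_root]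
    rw [Equiv.Perm.mul_apply, e, ← h, pm_rep11_apply_root]

theorem pair_of_even {K : Subgroup (Equiv.Perm GolayPt)} (hK : K ≤ M24)
    (hr : pm Data.rep11 ∈ K) (hcard : Nat.card K = 887040) :
    ∀ k ∈ K, k • ({A, B} : Finset GolayPt) = {A, B} := by
  obtain ⟨hroot, hsz, -, -⟩ := piece11_facts
  obtain ⟨hA, -, -, hpair⟩ := piece11_AB
  obtain ⟨c, hle, hidem, hc⟩ := exists_pattern K Data.piece11 Data.root11 hroot
    fun y => ⟨_, pow_mem hr (expAt y), pm_rep11_apply_root y⟩
  have : Fact (Nat.Prime 7) := ⟨by norm_num⟩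
  obtain ⟨g, hg, hord⟩ := exists_of_order (L := K) (p := 7) (by rw [hcard]; norm_num)
  obtain ⟨hd, hs⟩ := pattern_facts hroot hsz hc hcard hg (hord ▸ pow_orderOf_eq_one g)
    (fix_of_seven (hK hg) hord)
  rcases cases_whole c hle hidem hd hs with hb | h0
  · intro k hk
    refine Finset.eq_of_subset_of_card_le (fun y hy => ?_) (Finset.card_smul_finset _ _).ge
    obtain ⟨x, hx, rfl⟩ := Finset.mem_smul_finset.1 hy
    rw [hpair] at hx ⊢
    rw [Equiv.Perm.smul_def, ← hb _ _ ((hc x (k x)).1 ⟨k, hk, rfl⟩)]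
    exact hx
  · exact (not_transitive hK hr hcard fun y => (hc A y).2 (by rw [hA, h0, h0])).elim

end CfsgLib.M24Index
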