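import Cfsg.Agent.Lib.M24Index.Odd
import Cfsg.Agent.Lib.M24Index.Even

/-!
The subgroups of M24 of index 253, 276, 759 and 1771.
-/

set_option autoImplicit false

namespace CfsgLib.M24Index

open Cfsg CfsgLib CfsgLib.M24Elt
open scoped Pointwise

theorem card_of_index {H : Subgroup M24} {d n : ℕ} (h : H.index = d) (hd : d * n = 244823040)
    (hd0 : 0 < d) : Nat.card H = n := by
  have h1 := H.card_mul_index
  rw [h, Golay.card_M24, ← hd, mul_comm d n] at h1
  exact Nat.eq_of_mul_eq_mul_right hd0 h1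

/-- After conjugation a subgroup contains a chosen Sylow subgroup. -/
theorem reduce {p k : ℕ} [Fact p.Prime] {R : Subgroup (Equiv.Perm GolayPt)} (hR : R ≤ M24)
    (hRc : Nat.card R = p ^ k) (hk : ¬ p ^ (k + 1) ∣ 244823040) {H : Subgroup M24}
    (hH : p ^ k ∣ Nat.card H) :
    ∃ (u : M24) (K : Subgroup (Equiv.Perm GolayPt)), K ≤ M24 ∧ R ≤ K ∧ Nat.card K = Nat.card H ∧
      ∀ h ∈ H, (u : Equiv.Perm GolayPt)⁻¹ * (h : Equiv.Perm GolayPt) * u ∈ K := by
  obtain ⟨P, hP⟩ := Sylow.exists_subgroup_card_pow_prime p hH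
  have hP' : Nat.card (P.map H.subtype) = p ^ k :=
    (Subgroup.card_map_of_injective H.subtype_injective).trans hP
  have hR' : Nat.card (R.subgroupOf M24) = p ^ k :=
    (Nat.card_congr (Subgroup.subgroupOfEquivOfLe hR).toEquiv).trans hRc
  obtain ⟨u, hu⟩ := exists_conj_of_card (G := M24) (by rw [Golay.card_M24]; exact hk) hR' hP'
  refine ⟨u, (H.map (MulAut.conj u⁻¹).toMonoidHom).map M24.subtype, ?_, ?_, ?_, ?_⟩
  · rintro x ⟨y, -, rfl⟩; exact y.2
  · intro s hs
    refine ⟨⟨s, hR hs⟩, ⟨u * ⟨s, hR hs⟩ * u⁻¹, ?_, ?_⟩, rfl⟩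
    · obtain ⟨z, -, e⟩ := hu ⟨s, hR hs⟩ hs
      rw [← e]; exact z.2
    · simp [mul_assoc]
  · rw [Subgroup.card_map_of_injective M24.subtype_injective,
      Subgroup.card_map_of_injective (MulAut.conj u⁻¹).injective]
  · intro h hh
    exact ⟨u⁻¹ * h * u, ⟨h, hh, by simp⟩, rfl⟩

/-- A fixed object of the conjugate gives a fixed object of the subgroup. -/
theorem fixed_of_conj {α : Type*} [MulAction (Equiv.Perm GolayPt) α] {H : Subgroup M24}
    {u : M24} {K : Subgroup (Equiv.Perm GolayPt)}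
    (hu : ∀ h ∈ H, (u : Equiv.Perm GolayPt)⁻¹ * (h : Equiv.Perm GolayPt) * u ∈ K) {o : α}
    (ho : ∀ k ∈ K, k • o = o) {h : M24} (hh : h ∈ H) :
    (h : Equiv.Perm GolayPt) • ((u : Equiv.Perm GolayPt) • o) = (u : Equiv.Perm GolayPt) • o := by
  have := ho _ (hu h hh)
  rw [mul_smul, mul_smul, inv_smul_eq_iff] at this
  exact this

theorem card_stab_octad {o : Finset GolayPt} (ho : o ∈ octads) :
    Nat.card (MulAction.stabilizer M24 o) = 322560 := by
  rw [← M24Stab.card_setStab ho]
  exact Nat.card_congr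
    { toFun := fun g => ⟨g.1.1, M24Stab.mem_setStab.2 ⟨g.1.2, g.2⟩⟩
      invFun := fun g => ⟨⟨g.1, (M24Stab.mem_setStab.1 g.2).1⟩, (M24Stab.mem_setStab.1 g.2).2⟩
      left_inv := fun _ => rfl
      right_inv := fun _ => rfl }

theorem index_stab_pair {s : Finset GolayPt} (hs : s.card = 2) :
    (MulAction.stabilizer M24 s).index = 276 := by
  obtain ⟨a, b, hab, rfl⟩ := Finset.card_eq_two.1 hs
  have horb : MulAction.orbit M24 ({a, b} : Finset GolayPt) =
      ↑((Finset.univ : Finset GolayPt).powersetCard 2) := by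
    ext t
    rw [Finset.mem_coe, Finset.mem_powersetCard]
    refine ⟨fun ⟨g, e⟩ => ⟨Finset.subset_univ _, ?_⟩, fun ⟨_, ht⟩ => ?_⟩
    · rw [← e]
      exact (Finset.card_smul_finset _ _).trans (Finset.card_pair hab)
    · obtain ⟨x, y, hxy, rfl⟩ := Finset.card_eq_two.1 ht
      obtain ⟨g, hg, hgm⟩ := Golay.exists_map_M24 (xs := [a, b]) (ys := [x, y]) (by simp [hab])
        (by simp [hxy]) (by simp) (by simp)
      refine ⟨⟨g, hg⟩, ?_⟩
      simp only [List.map_cons, List.map_nil, List.cons.injEq, and_true] at hgm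
      show g • ({a, b} : Finset GolayPt) = {x, y}
      rw [Finset.smul_finset_insert, Finset.smul_finset_singleton, Equiv.Perm.smul_def,
        Equiv.Perm.smul_def, hgm.1, hgm.2]
  rw [MulAction.index_stabilizer, horb, Set.ncard_coe_finset, Finset.card_powersetCard,
    Finset.card_univ]
  decide +kernel

theorem index_759 (H : Subgroup M24) (h : H.index = 759) :
    ∃ o ∈ octads, H = MulAction.stabilizer M24 o := by
  have hc : Nat.card H = 322560 := card_of_index h (by norm_num) (by norm_num)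
  have : Fact (Nat.Prime 2) := ⟨Nat.prime_two⟩
  obtain ⟨u, K, hK, hS, hKc, hu⟩ := reduce (p := 2) (k := 10) syl_le (card_syl.trans (by norm_num))
    (by norm_num) (H := H) (by rw [hc]; norm_num)
  have hfix := seven_cases hK hS (N := 13440) (by simp) (by rw [hKc, hc])
  have ho : (u : Equiv.Perm GolayPt) • O1 ∈ octads := M24Orbits.smul_mem_octads u O1_mem
  exact ⟨_, ho, Subgroup.eq_of_le_of_card_ge
    (fun g hg => MulAction.mem_stabilizer_iff.2 (fixed_of_conj hu hfix hg))
    (by rw [card_stab_octad ho, hc])⟩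

theorem index_253 (H : Subgroup M24) : H.index ≠ 253 := fun h => by
  have hc : Nat.card H = 967680 := card_of_index h (by norm_num) (by norm_num)
  have : Fact (Nat.Prime 2) := ⟨Nat.prime_two⟩
  obtain ⟨u, K, hK, hS, hKc, -⟩ := reduce (p := 2) (k := 10) syl_le (card_syl.trans (by norm_num))
    (by norm_num) (H := H) (by rw [hc]; norm_num)
  have hfix := seven_cases hK hS (N := 40320) (by simp) (by rw [hKc, hc])
  have := card_dvd_octad hK hfix
  rw [hKc, hc] at this
  norm_num at this

theorem index_1771 (H : Subgroup M24) (h : H.index = 1771) :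
    ∃ S ∈ sextets, H = MulAction.stabilizer M24 S := by
  have hc : Nat.card H = 138240 := card_of_index h (by norm_num) (by norm_num)
  have : Fact (Nat.Prime 2) := ⟨Nat.prime_two⟩
  obtain ⟨u, K, hK, hS, hKc, hu⟩ := reduce (p := 2) (k := 10) syl_le (card_syl.trans (by norm_num))
    (by norm_num) (H := H) (by rw [hc]; norm_num)
  have hfix := five_cases' hK hS (by rw [hKc, hc])
  have ho : (u : Equiv.Perm GolayPt) • six ∈ sextets := M24Orbits.smul_mem_sextets u six_mem
  exact ⟨_, ho, Subgroup.eq_of_le_of_card_ge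
    (fun g hg => MulAction.mem_stabilizer_iff.2 (fixed_of_conj hu hfix hg))
    (by rw [M24Stab.card_stab_sextet ho, hc])⟩

theorem index_276 (H : Subgroup M24) (h : H.index = 276) :
    ∃ s : Finset GolayPt, s.card = 2 ∧ H = MulAction.stabilizer M24 s := by
  have hc : Nat.card H = 887040 := card_of_index h (by norm_num) (by norm_num)
  have : Fact (Nat.Prime 11) := ⟨by norm_num⟩
  have hR : Nat.card (Subgroup.zpowers (pm Data.rep11)) = 11 ^ 1 := by
    rw [Nat.card_zpowers, orderOf_pm (p := 11) (good_ok rep11_good.1) (by decide +kernel)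
      (by decide +kernel), pow_one]
  obtain ⟨u, K, hK, hS, hKc, hu⟩ := reduce (k := 1)
    (Subgroup.zpowers_le.2 (pm_mem rep11_good.1)) hR (by norm_num) (H := H)
    (by rw [hc]; norm_num)
  have hfix := pair_of_even hK (hS (Subgroup.mem_zpowers _)) (by rw [hKc, hc])
  have hcard : ((u : Equiv.Perm GolayPt) • ({A, B} : Finset GolayPt)).card = 2 := by
    rw [Finset.card_smul_finset, Finset.card_pair piece11_AB.2.2.1]
  refine ⟨_, hcard, Subgroup.eq_of_le_of_card_ge
    (fun g hg => MulAction.mem_stabilizer_iff.2 (fixed_of_conj hu hfix hg)) ?_⟩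
  rw [card_of_index (index_stab_pair hcard) (n := 887040) (by norm_num) (by norm_num), hc]

end CfsgLib.M24Index
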