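import Cfsg.Agent.Lib.M24Index.Common

/-!
Subgroups of M24 of index 253, 759 and 1771 containing the Sylow 2-subgroup.
-/

set_option autoImplicit false

namespace CfsgLib.M24Index

open Cfsg CfsgLib.Golay CfsgLib.M24Elt
open scoped Pointwise

/-- Sizes of the inner pieces. -/
def sz1 : Fin 5 → ℕ := ![1, 1, 2, 4, 16]

theorem piece1_facts : (∀ i, Data.piece1 (Data.root1 i) = i) ∧
    (∀ i, (Finset.univ.filter fun y => Data.piece1 y = i).card = sz1 i) ∧
    (∀ y, Data.piece1 y = 0 → y = P1) ∧ Data.piece1 P1 = 0 := by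
  decide +kernel

theorem word1_check : ∀ y, eltFun Data.word1 y P1 = P1 ∧
    eltFun Data.word1 y (Data.root1 (Data.piece1 y)) = y := by
  decide +kernel

theorem word0_check : ∀ y, eltFun Data.word0 y P0 = P0 ∧
    eltFun Data.word0 y (Data.root0 (Data.piece0 y)) = y := by
  decide +kernel

theorem move_check : ∀ y, (y ∈ O1 → eltFun Data.move1 y P1 = y) ∧
    (y ∉ O1 → eltFun Data.move0 y P0 = y) := by
  decide +kernel

theorem base_mem : P1 ∈ O1 ∧ P1 ∈ T1 ∧ P0 ∉ O1 := by decide +kernel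

/-- A union of inner pieces closed under a merging. -/
def closedSet (c : Fin 5 → Fin 5) (b : Fin 5 → Bool) : Prop :=
  ∀ i j, c i = c j → b i = b j

instance (c : Fin 5 → Fin 5) (b : Fin 5 → Bool) : Decidable (closedSet c b) :=
  inferInstanceAs (Decidable (∀ i j, c i = c j → b i = b j))

/-- The octad as a union of pieces. -/
def bO : Fin 5 → Bool := ![true, true, true, true, false]
/-- The tetrad as a union of pieces. -/
def bT : Fin 5 → Bool := ![true, true, true, false, false]
/-- The pair as a union of pieces. -/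
def bP : Fin 5 → Bool := ![false, false, true, false, false]
/-- The five points as a union of pieces. -/
def bD : Fin 5 → Bool := ![false, true, false, true, false]

/-- The five points. -/
def D5 : Finset GolayPt := ofBits [4, 7, 14, 18, 20]

/-- The pair. -/
def P35 : Finset GolayPt := ofBits [3, 5]

theorem set_pieces : (∀ y, y ∈ O1 ↔ bO (Data.piece1 y) = true) ∧
    (∀ y, y ∈ T1 ↔ bT (Data.piece1 y) = true) ∧ (∀ y, y ∈ P35 ↔ bP (Data.piece1 y) = true) ∧
    (∀ y, y ∈ D5 ↔ bD (Data.piece1 y) = true) := by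
  decide +kernel

set_option maxRecDepth 4000 in
theorem cases_seven : ∀ N ∈ [13440, 40320], ∀ c : Fin 5 → Fin 5, (∀ i, c i ≤ i) →
    (∀ i, c (c i) = c i) → (∀ i, c i = 0 → i = 0) →
    (∀ j, c j = j → classSize sz1 c j ∣ N) → ∑ j, classSize sz1 c j % 7 ≤ 3 →
    closedSet c bO ∨ closedSet c bP := by
  decide +kernel

set_option maxRecDepth 4000 in
theorem cases_five : ∀ c : Fin 5 → Fin 5, (∀ i, c i ≤ i) →
    (∀ i, c (c i) = c i) → (∀ i, c i = 0 → i = 0) →
    (∀ j, c j = j → classSize sz1 c j ∣ 5760) → ∑ j, classSize sz1 c j % 5 ≤ 4 →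
    closedSet c bO ∨ closedSet c bT ∨ (closedSet c bD ∧ c 2 = c 4) := by
  decide +kernel

variable {K : Subgroup (Equiv.Perm GolayPt)}

theorem smul_eq_of_mapsTo {g : Equiv.Perm GolayPt} {s : Finset GolayPt} (h : ∀ x ∈ s, g x ∈ s) :
    g • s = s :=
  Finset.eq_of_subset_of_card_le (fun y hy => by
    obtain ⟨x, hx, rfl⟩ := Finset.mem_smul_finset.1 hy; exact h x hx) (Finset.card_smul_finset _ _).ge

theorem transitive_or_octad (hS : syl ≤ K) :
    (∀ k ∈ K, k • O1 = O1) ∨ ∀ y, ∃ k ∈ K, k P1 = y := by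
  refine or_iff_not_imp_left.2 fun h => ?_
  push Not at h
  obtain ⟨k, hk, hne⟩ := h
  obtain ⟨x, hx, hkx⟩ : ∃ x ∈ O1, k x ∉ O1 := by
    by_contra hcon
    push Not at hcon
    exact hne (smul_eq_of_mapsTo hcon)
  have hs := hS (elt_mem Data.move1 x)
  have ht := hS (elt_mem Data.move0 (k x))
  intro y
  by_cases hy : y ∈ O1
  · exact ⟨_, hS (elt_mem Data.move1 y), by rw [elt_apply, (move_check y).1 hy]⟩
  · refine ⟨elt Data.move0 y * ((elt Data.move0 (k x))⁻¹ * (k * elt Data.move1 x)),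
      mul_mem (hS (elt_mem _ _)) (mul_mem (inv_mem ht) (mul_mem hk hs)), ?_⟩
    have e : (elt Data.move0 (k x))⁻¹ (k x) = P0 := by
      rw [Equiv.Perm.inv_def, Equiv.symm_apply_eq, elt_apply, (move_check _).2 hkx]
    rw [Equiv.Perm.mul_apply, Equiv.Perm.mul_apply, Equiv.Perm.mul_apply, elt_apply Data.move1,
      (move_check x).1 hx, e, elt_apply, (move_check y).2 hy]

theorem card_fix_of_transitive (htr : ∀ y, ∃ k ∈ K, k P1 = y) :
    Nat.card K = 24 * Nat.card (fixPts K [P1]) := by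
  have h := card_fixPts_step (H := K) (l := []) (b := P1) (Δ := Finset.univ)
    (fun g _ => Finset.mem_univ _) (fun x _ => by
      obtain ⟨k, hk, e⟩ := htr x
      exact ⟨k, by rw [fixPts_nil]; exact hk, e⟩)
  rw [fixPts_nil, Finset.card_univ] at h
  simpa [GolayPt] using h

/-- The merging of the inner pieces. -/
theorem exists_merge (hS : syl ≤ K) : ∃ c : Fin 5 → Fin 5, (∀ i, c i ≤ i) ∧ (∀ i, c (c i) = c i) ∧
    (∀ i, c i = 0 → i = 0) ∧ ∀ x y, (∃ k ∈ fixPts K [P1], k x = y) ↔
      c (Data.piece1 x) = c (Data.piece1 y) := by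
  obtain ⟨hroot, -, hzero, hP1⟩ := piece1_facts
  obtain ⟨c, hle, hidem, hc⟩ := exists_pattern (fixPts K [P1]) Data.piece1 Data.root1 hroot
    (fun y => ⟨elt Data.word1 y, mem_fixPts.2 ⟨hS (elt_mem _ _), fun z hz => by
      rw [List.mem_singleton.1 hz, elt_apply, (word1_check y).1]⟩,
      by rw [elt_apply, (word1_check y).2]⟩)
  refine ⟨c, hle, hidem, fun i hi => ?_, hc⟩
  obtain ⟨k, hk, e⟩ := (hc (Data.root1 i) P1).2 (by
    rw [hroot, hP1, hi]; exact (Fin.le_zero_iff.1 (hle 0)).symm)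
  have : Data.root1 i = P1 := k.injective (e.trans ((mem_fixPts.1 hk).2 P1 (by simp)).symm)
  rw [← hroot i, this, hP1]

theorem preserves_of_closed {c : Fin 5 → Fin 5} {b : Fin 5 → Bool} {s : Finset GolayPt}
    (hc : ∀ x y, (∃ k ∈ fixPts K [P1], k x = y) ↔ c (Data.piece1 x) = c (Data.piece1 y))
    (hcl : closedSet c b) (hs : ∀ y, y ∈ s ↔ b (Data.piece1 y) = true)
    {k : Equiv.Perm GolayPt} (hk : k ∈ fixPts K [P1]) : k • s = s :=
  smul_eq_of_mapsTo fun x hx => by
    rw [hs, ← hcl _ _ ((hc x (k x)).1 ⟨k, hk, rfl⟩), ← hs]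
    exact hx

theorem conj_mem_fix {h s : Equiv.Perm GolayPt} (hs : s ∈ K) (hh : h ∈ K) (e : s P1 = h P1) :
    s⁻¹ * h ∈ fixPts K [P1] :=
  mem_fixPts.2 ⟨mul_mem (inv_mem hs) hh, fun z hz => by
    rw [List.mem_singleton.1 hz, Equiv.Perm.mul_apply, Equiv.Perm.inv_def, Equiv.symm_apply_eq, e]⟩

/-- The outer pieces meeting a set invariant under the outer point stabiliser. -/
theorem outer_images (hS : syl ≤ K) {s : Finset GolayPt}
    (hfix : ∀ k ∈ fixPts K [P1], k • s = s) {h : Equiv.Perm GolayPt} (hh : h ∈ K) (h0 : h P1 = P0) :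
    ∃ b : Fin 6 → Bool, h • s = Finset.univ.filter fun y => b (Data.piece0 y) = true := by
  classical
  refine ⟨fun i => decide (Data.root0 i ∈ h • s), ?_⟩
  ext y
  simp only [Finset.mem_filter, Finset.mem_univ, true_and, decide_eq_true_eq]
  set w := elt Data.word0 y with hw
  have hw0 : w P0 = P0 := by rw [hw, elt_apply, (word0_check y).1]
  have hwy : w (Data.root0 (Data.piece0 y)) = y := by rw [hw, elt_apply, (word0_check y).2]
  have hinv : w • (h • s) = h • s := by
    have hm : h⁻¹ * (w * h) ∈ fixPts K [P1] :=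
      conj_mem_fix hh (mul_mem (hS (elt_mem _ _)) hh) (by rw [Equiv.Perm.mul_apply, h0, hw0])
    conv_rhs => rw [← hfix _ hm, mul_smul, smul_inv_smul, mul_smul]
  conv_lhs => rw [← hinv, ← hwy]
  exact Finset.smul_mem_smul_finset_iff w

/-- Images of an invariant set lie in the family generated from two of its images. -/
theorem image_cases (hS : syl ≤ K) {s s' : Finset GolayPt}
    (hfix : ∀ k ∈ fixPts K [P1], k • s = s)
    (hs' : ∀ b : Fin 6 → Bool, b 0 = true →
      (Finset.univ.filter fun y => b (Data.piece0 y) = true).card = s.card →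
      (Finset.univ.filter fun y => b (Data.piece0 y) = true) = s')
    (hP : P1 ∈ s) (F : Finset (Finset GolayPt))
    (hF1 : ∀ y ∈ O1, s.image (eltFun Data.move1 y) ∈ F)
    (hF0 : ∀ y ∉ O1, s'.image (eltFun Data.move0 y) ∈ F) :
    (∀ h ∈ K, h P1 = P0 → h • s = s') ∧ ∀ h ∈ K, h • s ∈ F := by
  have hbase : ∀ h ∈ K, h P1 = P0 → h • s = s' := by
    intro h hh h0
    obtain ⟨b, hb⟩ := outer_images hS hfix hh h0
    have hb0 : b 0 = true := by
      have hmem : P0 ∈ h • s := h0 ▸ Finset.smul_mem_smul_finset hP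
      rw [hb, Finset.mem_filter] at hmem
      have e : Data.piece0 P0 = 0 := by decide +kernel
      rw [← e]; exact hmem.2
    rw [hb]
    exact hs' b hb0 (by rw [← hb, Finset.card_smul_finset])
  refine ⟨hbase, fun h hh => ?_⟩
  by_cases hx : h P1 ∈ O1
  · have hm := conj_mem_fix (hS (elt_mem Data.move1 (h P1))) hh
      (by rw [elt_apply, (move_check _).1 hx])
    have := hfix _ hm
    rw [mul_smul, inv_smul_eq_iff, elt_smul] at this
    rw [this]
    exact hF1 _ hx
  · set t := elt Data.move0 (h P1) with ht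
    have ht0 : t P0 = h P1 := by rw [ht, elt_apply, (move_check _).2 hx]
    have := hbase (t⁻¹ * h) (mul_mem (inv_mem (hS (elt_mem _ _))) hh) (by
      rw [Equiv.Perm.mul_apply, Equiv.Perm.inv_def, Equiv.symm_apply_eq, ht0])
    rw [mul_smul, inv_smul_eq_iff] at this
    rw [this, ht, elt_smul]
    exact hF0 _ hx

/-- The three octads. -/
def trio : Finset (Finset GolayPt) := {O1, O2, O3}

/-- The six tetrads. -/
def six : Finset (Finset GolayPt) :=
  {T1, ofBits [4, 14, 18, 20], T0, ofBits [2, 9, 15, 21], ofBits [6, 11, 12, 23],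
    ofBits [8, 10, 16, 17]}

set_option maxRecDepth 30000 in
theorem octad_outer : ∀ b : Fin 6 → Bool, b 0 = true →
    (Finset.univ.filter fun y => b (Data.piece0 y) = true).card = O1.card →
    (Finset.univ.filter fun y => b (Data.piece0 y) = true) = O2 := by
  decide +kernel

set_option maxRecDepth 30000 in
theorem tetrad_outer : ∀ b : Fin 6 → Bool, b 0 = true →
    (Finset.univ.filter fun y => b (Data.piece0 y) = true).card = T1.card →
    (Finset.univ.filter fun y => b (Data.piece0 y) = true) = T0 := by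
  decide +kernel

theorem trio_checks : (∀ y ∈ O1, O1.image (eltFun Data.move1 y) ∈ trio) ∧
    (∀ y, y ∉ O1 → O2.image (eltFun Data.move0 y) ∈ trio) ∧
    O3 = O2.image (eltFun Data.move0 (Golay.pt 6)) := by
  decide +kernel

theorem six_images : (T1 = T1.image (eltFun Data.move1 P1) ∧
    ofBits [4, 14, 18, 20] = T1.image (eltFun Data.move1 (Golay.pt 4))) ∧
    (T0 = T0.image (eltFun Data.move0 P0) ∧
    ofBits [2, 9, 15, 21] = T0.image (eltFun Data.move0 (Golay.pt 2)) ∧
    ofBits [6, 11, 12, 23] = T0.image (eltFun Data.move0 (Golay.pt 6)) ∧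
    ofBits [8, 10, 16, 17] = T0.image (eltFun Data.move0 (Golay.pt 8))) := by
  decide +kernel

theorem six_members : (Golay.pt 4 ∈ O1) ∧
    (Golay.pt 2 ∉ O1 ∧ Golay.pt 6 ∉ O1 ∧ Golay.pt 8 ∉ O1) := by
  decide +kernel

theorem six_checks : (∀ y ∈ O1, T1.image (eltFun Data.move1 y) ∈ six) ∧
    (∀ y, y ∉ O1 → T0.image (eltFun Data.move0 y) ∈ six) ∧
    (∀ t ∈ six, (∃ y ∈ O1, t = T1.image (eltFun Data.move1 y)) ∨
      ∃ y, y ∉ O1 ∧ t = T0.image (eltFun Data.move0 y)) := by
  refine ⟨by decide +kernel, by decide +kernel, fun t ht => ?_⟩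
  obtain ⟨⟨a1, a2⟩, b1, b2, b3, b4⟩ := six_images
  obtain ⟨c1, d1, d2, d3⟩ := six_members
  simp only [six, Finset.mem_insert, Finset.mem_singleton] at ht
  rcases ht with rfl | rfl | rfl | rfl | rfl | rfl
  · exact Or.inl ⟨_, base_mem.1, a1⟩
  · exact Or.inl ⟨_, c1, a2⟩
  · exact Or.inr ⟨_, base_mem.2.2, b1⟩
  · exact Or.inr ⟨_, d1, b2⟩
  · exact Or.inr ⟨_, d2, b3⟩
  · exact Or.inr ⟨_, d3, b4⟩

/-- The index of the octad of the trio through a point. -/
def part (y : GolayPt) : Fin 3 := if y ∈ O1 then 0 else if y ∈ O2 then 1 else 2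

/-- The octads of the trio in order. -/
def octs : Fin 3 → Finset GolayPt := ![O1, O2, O3]

theorem part_checks : (∀ y, y ∈ octs (part y)) ∧ (∀ y j, y ∈ octs j → part y = j) ∧
    (∀ a ∈ trio, ∃ j, octs j = a) ∧ (∀ i j, octs i = octs j → i = j) ∧
    ∀ j, (Finset.univ.filter fun y => part y = j).card = 8 := by
  refine ⟨by decide +kernel, by decide +kernel, fun a ha => ?_, by decide +kernel, by decide +kernel⟩
  simp only [trio, Finset.mem_insert, Finset.mem_singleton] at ha
  rcases ha with rfl | rfl | rfl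
  exacts [⟨0, rfl⟩, ⟨1, rfl⟩, ⟨2, rfl⟩]

/-- A transitive group cannot permute the three octads when it has an element of order 5. -/
theorem octad_block_false (hK : K ≤ M24) (hS : syl ≤ K) (htr : ∀ y, ∃ k ∈ K, k P1 = y)
    (hfix : ∀ k ∈ fixPts K [P1], k • O1 = O1) (h5 : 5 ∣ Nat.card K) : False := by
  obtain ⟨hF1, hF0, hO3⟩ := trio_checks
  obtain ⟨hbase, hall⟩ := image_cases hS hfix octad_outer base_mem.1 trio hF1 hF0
  obtain ⟨h, hh, h0⟩ := htr P0
  have him : ∀ j, ∃ k ∈ K, k • O1 = octs j := by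
    intro j
    fin_cases j
    · exact ⟨1, K.one_mem, one_smul _ _⟩
    · exact ⟨h, hh, hbase h hh h0⟩
    · refine ⟨elt Data.move0 (Golay.pt 6) * h, mul_mem (hS (elt_mem _ _)) hh, ?_⟩
      rw [mul_smul, hbase h hh h0, elt_smul]
      exact hO3.symm
  have : Fact (Nat.Prime 5) := ⟨by norm_num⟩
  obtain ⟨g, hgK, hg⟩ := exists_of_order h5
  obtain ⟨hp1, hp2, hp3, hp4, hp5⟩ := part_checks
  have hσ : ∀ j, ∃ i, g • octs j = octs i := fun j => by
    obtain ⟨k, hk, e⟩ := him j
    obtain ⟨i, hi⟩ := hp3 _ (hall (g * k) (mul_mem hgK hk))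
    exact ⟨i, by rw [hi, mul_smul, e]⟩
  choose σ hσ using hσ
  have hσinj : Function.Injective σ := fun i j e =>
    hp4 i j (MulAction.injective g (show g • octs i = g • octs j by rw [hσ i, hσ j, e]))
  let τ : Equiv.Perm (Fin 3) := Equiv.ofBijective σ (Finite.injective_iff_bijective.1 hσinj)
  have hpow : ∀ (n : ℕ) j, (g ^ n) • octs j = octs ((τ ^ n) j) := by
    intro n
    induction n with
    | zero => intro j; rw [pow_zero, pow_zero, one_smul]; rfl
    | succ n ih => intro j; rw [pow_succ, pow_succ, mul_smul, hσ j, ih, Equiv.Perm.mul_apply]; rfl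
  have hg5 : g ^ 5 = 1 := hg ▸ pow_orderOf_eq_one g
  have hτ5 : τ ^ 5 = 1 := Equiv.ext fun j => hp4 _ _ (by rw [← hpow, hg5, one_smul]; rfl)
  have hτ : τ = 1 := (by decide +kernel : ∀ τ : Equiv.Perm (Fin 3), τ ^ 5 = 1 → τ = 1) τ hτ5
  have hinv : ∀ x, part (g x) = part x := fun x => by
    refine hp2 _ _ ?_
    have hfix' : g • octs (part x) = octs (part x) := by
      rw [hσ]; exact congrArg octs (Equiv.congr_fun hτ _)
    rw [← hfix']
    exact Finset.smul_mem_smul_finset (hp1 x)
  have hsum := sum_mod_le hg5 part hinv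
  rw [fix_of_five (hK hgK) hg] at hsum
  simp only [hp5, Finset.sum_const, Finset.card_univ, Fintype.card_fin, smul_eq_mul] at hsum
  omega

theorem pair_false (hK : K ≤ M24) (hS : syl ≤ K) {g : Equiv.Perm GolayPt}
    (hg : g ∈ fixPts K [P1]) (hord : orderOf g = 7)
    (hfix : ∀ k ∈ fixPts K [P1], k • P35 = P35) : False := by
  have : Fact (Nat.Prime 7) := ⟨by norm_num⟩
  have hg7 : g ^ 7 = 1 := hord ▸ pow_orderOf_eq_one g
  have hgK := (mem_fixPts.1 hg).1
  have hmem : ∀ x, g x ∈ P35 ↔ x ∈ P35 := fun x => by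
    conv_lhs => rw [← hfix g hg]
    exact Finset.smul_mem_smul_finset_iff g
  have h2 := mod_le_fixed hg7 hmem
  have hP35 : P35.card = 2 := by decide +kernel
  rw [hP35] at h2
  have hfx : ∀ x ∈ P35, g x = x := fun x hx => by
    have := Finset.eq_of_subset_of_card_le (Finset.filter_subset (fun x => g x = x) P35)
      (by rw [hP35]; exact h2)
    rw [← this] at hx
    exact (Finset.mem_filter.1 hx).2
  obtain ⟨h3, himg⟩ : Golay.pt 3 ∈ O1 ∧
      P35.image (eltFun Data.move1 (Golay.pt 3)) = ofBits [1, 7] := by decide +kernel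
  set s := elt Data.move1 (Golay.pt 3) with hs
  have hs1 : s P1 = Golay.pt 3 := by rw [hs, elt_apply, (move_check _).1 h3]
  have hsK : s ∈ K := hS (elt_mem _ _)
  have hm : s⁻¹ * (g * s) ∈ fixPts K [P1] := conj_mem_fix hsK (mul_mem hgK hsK) (by
    rw [Equiv.Perm.mul_apply, hs1, hfx _ (by decide +kernel)])
  have h17 := hfix _ hm
  rw [mul_smul, inv_smul_eq_iff, mul_smul, hs, elt_smul, himg] at h17
  have hP1 : g P1 = P1 := (mem_fixPts.1 hg).2 P1 (by simp)
  have hg7' : g (Golay.pt 7) = Golay.pt 7 := by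
    have hin : g (Golay.pt 7) ∈ ofBits [1, 7] := by
      rw [← h17]; exact Finset.smul_mem_smul_finset (by decide +kernel)
    have hne : g (Golay.pt 7) ≠ P1 := fun e =>
      (by decide +kernel : Golay.pt 7 ≠ P1) (g.injective (e.trans hP1.symm))
    exact (by decide +kernel : ∀ z ∈ ofBits [1, 7], z ≠ P1 → z = Golay.pt 7) _ hin hne
  have hle : (ofBits [1, 3, 5, 7]).card ≤ fixCard g := by
    refine Finset.card_le_card fun x hx => Finset.mem_filter.2 ⟨Finset.mem_univ _, ?_⟩
    rcases (by decide +kernel : ∀ z ∈ ofBits [1, 3, 5, 7], z ∈ P35 ∨ z = P1 ∨ z = Golay.pt 7) x hx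
      with h | rfl | rfl
    · exact hfx x h
    · exact hP1
    · exact hg7'
  rw [fix_of_seven (hK hgK) hord, show (ofBits [1, 3, 5, 7]).card = 4 by decide +kernel] at hle
  omega

theorem five_points_octad (hS : syl ≤ K) (hfix : ∀ k ∈ fixPts K [P1], k • D5 = D5)
    {k : Equiv.Perm GolayPt} (hk : k ∈ fixPts K [P1]) : k • O1 = O1 := by
  obtain ⟨h4, hcover, hsub⟩ : Golay.pt 4 ∈ D5 ∧
      (∀ x ∈ O1, x = P1 ∨ x ∈ D5 ∨ x ∈ D5.image (eltFun Data.move1 (Golay.pt 4))) ∧
      ∀ x ∈ D5, x ∈ O1 := by decide +kernel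
  set s := elt Data.move1 (Golay.pt 4) with hs
  refine smul_eq_of_mapsTo fun x hx => ?_
  rcases hcover x hx with rfl | h | h
  · rw [(mem_fixPts.1 hk).2 P1 (by simp)]; exact base_mem.1
  · refine hsub _ ?_
    rw [← hfix k hk]
    exact Finset.smul_mem_smul_finset h
  · rw [← elt_smul, ← hs] at h
    have hd : k (Golay.pt 4) ∈ O1 := hsub _ (by
      rw [← hfix k hk]; exact Finset.smul_mem_smul_finset h4)
    set t := elt Data.move1 (k (Golay.pt 4)) with ht
    have hm : t⁻¹ * (k * s) ∈ fixPts K [P1] := conj_mem_fix (hS (elt_mem _ _))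
      (mul_mem (mem_fixPts.1 hk).1 (hS (elt_mem _ _))) (by
        rw [Equiv.Perm.mul_apply, ht, hs, elt_apply, elt_apply, (move_check _).1 hd,
          (move_check _).1 (hsub _ h4)])
    have := hfix _ hm
    rw [mul_smul, inv_smul_eq_iff, mul_smul] at this
    have hin : k x ∈ t • D5 := by
      rw [← this]; exact Finset.smul_mem_smul_finset h
    obtain ⟨z, hz, e⟩ := Finset.mem_smul_finset.1 hin
    rw [← e, ← syl_O1 (elt_mem Data.move1 (k (Golay.pt 4)))]
    exact Finset.smul_mem_smul_finset (hsub _ hz)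

theorem O1_mem : O1 ∈ octads := by
  have h : O1 = toSet 1327290 := by decide +kernel
  rw [h]
  exact M24Orbits.mem_octads_of_isOct (by decide +kernel)

theorem six_mem : six ∈ sextets := by
  have h : six = M24Orbits.famDec [170, 1327120, 4726785, 2130436,
    8394816, 197888] := by decide +kernel
  rw [h]
  exact ⟨(M24Orbits.famDec_card (by decide +kernel) (by decide +kernel)).trans (by decide +kernel),
    M24Orbits.famDec_forall fun x hx => by
      have h : (([170, 1327120, 4726785, 2130436, 8394816, 197888] : List ℕ).all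
        fun x => Nat.beq (Golay.pc24 x) 4) = true := by decide +kernel
      rw [Golay.card_toSet, ← Golay.pc24_eq]
      exact Nat.eq_of_beq_eq_true (List.all_eq_true.1 h x hx),
    fun _ ht _ hu hne => M24Orbits.famDec_union_isOct (by decide +kernel) ht hu hne⟩

theorem card_dvd_octad (hK : K ≤ M24) (h : ∀ k ∈ K, k • O1 = O1) : Nat.card K ∣ 322560 :=
  M24Stab.card_setStab O1_mem ▸ Subgroup.card_dvd_of_le fun k hk =>
    M24Stab.mem_setStab.2 ⟨hK hk, h k hk⟩

theorem fix_dvd {n : ℕ} (htr : ∀ y, ∃ k ∈ K, k P1 = y) (hn : Nat.card K = 24 * n) :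
    Nat.card (fixPts K [P1]) = n := by
  have := card_fix_of_transitive htr
  omega

theorem seven_cases (hK : K ≤ M24) (hS : syl ≤ K) {N : ℕ} (hN : N ∈ [13440, 40320])
    (hcard : Nat.card K = 24 * N) : ∀ k ∈ K, k • O1 = O1 := by
  rcases transitive_or_octad hS with h | htr
  · exact h
  exfalso
  have hL := fix_dvd htr hcard
  have : Fact (Nat.Prime 7) := ⟨by norm_num⟩
  obtain ⟨g, hg, hord⟩ := exists_of_order (L := fixPts K [P1]) (p := 7) (by
    rw [hL]; simp only [List.mem_cons, List.not_mem_nil, or_false] at hN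
    rcases hN with rfl | rfl <;> norm_num)
  obtain ⟨c, hle, hidem, hzero, hc⟩ := exists_merge hS
  obtain ⟨hsum1, hsum2⟩ := pattern_facts piece1_facts.1 piece1_facts.2.1 hc hL hg
    (hord ▸ pow_orderOf_eq_one g) (fix_of_seven (hK (mem_fixPts.1 hg).1) hord)
  rcases cases_seven N hN c hle hidem hzero hsum1 hsum2 with hO | hP
  · refine octad_block_false hK hS htr (fun k hk => preserves_of_closed hc hO set_pieces.1 hk) ?_
    rw [hcard]
    simp only [List.mem_cons, List.not_mem_nil, or_false] at hN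
    rcases hN with rfl | rfl <;> norm_num
  · exact pair_false hK hS hg hord fun k hk => preserves_of_closed hc hP set_pieces.2.2.1 hk

theorem five_cases' (hK : K ≤ M24) (hS : syl ≤ K) (hcard : Nat.card K = 138240) :
    ∀ k ∈ K, k • six = six := by
  rcases transitive_or_octad hS with h | htr
  · exact absurd (hcard ▸ card_dvd_octad hK h) (by norm_num)
  have hL := fix_dvd htr (n := 5760) (by omega)
  have : Fact (Nat.Prime 5) := ⟨by norm_num⟩
  obtain ⟨g, hg, hord⟩ := exists_of_order (L := fixPts K [P1]) (p := 5) (by rw [hL]; norm_num)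
  obtain ⟨c, hle, hidem, hzero, hc⟩ := exists_merge hS
  obtain ⟨hsum1, hsum2⟩ := pattern_facts piece1_facts.1 piece1_facts.2.1 hc hL hg
    (hord ▸ pow_orderOf_eq_one g) (fix_of_five (hK (mem_fixPts.1 hg).1) hord)
  have h5 : 5 ∣ Nat.card K := by rw [hcard]; norm_num
  rcases cases_five c hle hidem hzero hsum1 hsum2 with hO | hT | ⟨hD, h24⟩
  · exact (octad_block_false hK hS htr (fun k hk => preserves_of_closed hc hO set_pieces.1 hk) h5).elim
  · obtain ⟨hF1, hF0, hsix⟩ := six_checks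
    obtain ⟨hbase, hall⟩ := image_cases hS
      (fun k hk => preserves_of_closed hc hT set_pieces.2.1 hk) tetrad_outer base_mem.2.1 six hF1 hF0
    obtain ⟨h, hh, h0⟩ := htr P0
    intro k hk
    refine Finset.eq_of_subset_of_card_le (fun t ht => ?_) (Finset.card_smul_finset _ _).ge
    obtain ⟨u, hu, rfl⟩ := Finset.mem_smul_finset.1 ht
    rcases hsix u hu with ⟨y, -, rfl⟩ | ⟨y, -, rfl⟩
    · rw [← elt_smul, smul_smul]
      exact hall _ (mul_mem hk (hS (elt_mem _ _)))
    · rw [← elt_smul, ← hbase h hh h0, smul_smul, smul_smul]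
      exact hall _ (mul_mem (mul_mem hk (hS (elt_mem _ _))) hh)
  · exfalso
    have hfix : ∀ k ∈ fixPts K [P1], k • O1 = O1 := fun k hk =>
      five_points_octad hS (fun k hk => preserves_of_closed hc hD set_pieces.2.2.2 hk) hk
    obtain ⟨k, hk, e⟩ := (hc (Data.root1 2) (Data.root1 4)).2 (by
      rw [piece1_facts.1, piece1_facts.1, h24])
    have hin : Data.root1 4 ∈ O1 := by
      rw [← hfix k hk, ← e]
      exact Finset.smul_mem_smul_finset (by decide +kernel)
    exact (by decide +kernel : Data.root1 4 ∉ O1) hin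

end CfsgLib.M24Index
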