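import Cfsg.Agent.Lib.M24Elt.Basic
import Cfsg.Agent.Lib.Golay.M24
import Mathlib.GroupTheory.Perm.Cycle.Type
import Mathlib.GroupTheory.Sylow

/-!
Tools for reading off the orbits of a subgroup of M24 from the orbits of a known subgroup of it and
from the cycle shapes of elements of prime order.
-/

set_option autoImplicit false

namespace CfsgLib.M24Index

open Cfsg CfsgLib.Golay CfsgLib.M24Elt CfsgLib.Comp
open scoped Pointwise

/-- A permutation whose `p`-th power is trivial fixes at least `|s| % p` points of an invariant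
set. -/
theorem mod_le_fixed {g : Equiv.Perm GolayPt} {p : ℕ} [Fact p.Prime] (hg : g ^ p = 1)
    {s : Finset GolayPt} (hs : ∀ x, g x ∈ s ↔ x ∈ s) :
    s.card % p ≤ (s.filter fun x => g x = x).card := by
  classical
  set σ : Equiv.Perm s := g.subtypePerm hs with hσ
  have hpow : ∀ (k : ℕ) (x : s), ((σ ^ k) x : GolayPt) = (g ^ k) x := by
    intro k
    induction k with
    | zero => intro x; rfl
    | succ k ih => intro x; rw [pow_succ, pow_succ, Equiv.Perm.mul_apply, Equiv.Perm.mul_apply, ih]; rfl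
  have hσp : σ ^ p = 1 := Equiv.ext fun x => Subtype.ext (by rw [hpow, hg]; rfl)
  have hdvd : p ∣ σ.support.card := by
    rw [← σ.sum_cycleType]
    exact Multiset.dvd_sum fun c hc => (Equiv.Perm.pow_prime_eq_one_iff.1 hσp c hc).symm.dvd
  have hfix : (s.filter fun x => g x = x).card = (Finset.univ.filter fun x : s => σ x = x).card := by
    rw [← Finset.card_map (Function.Embedding.subtype _)]
    congr 1
    ext x
    simp only [Finset.mem_filter, Finset.mem_map, Finset.mem_univ, true_and]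
    constructor
    · rintro ⟨hx, h⟩; exact ⟨⟨x, hx⟩, Subtype.ext h, rfl⟩
    · rintro ⟨y, hy, rfl⟩; exact ⟨y.2, congrArg Subtype.val hy⟩
  have htot : (Finset.univ.filter fun x : s => σ x = x).card + σ.support.card = s.card := by
    have h := Finset.card_filter_add_card_filter_not (s := (Finset.univ : Finset s)) (fun x => σ x = x)
    rw [Finset.card_univ, Fintype.card_coe] at h
    rw [← h]
    congr 2
  obtain ⟨m, hm⟩ := hdvd
  have : s.card % p = (Finset.univ.filter fun x : s => σ x = x).card % p := by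
    rw [← htot, hm, Nat.add_mul_mod_self_left]
  rw [hfix, this]
  exact Nat.mod_le _ _

/-- The fixed point bound for an invariant partition. -/
theorem sum_mod_le {g : Equiv.Perm GolayPt} {p : ℕ} [Fact p.Prime] (hg : g ^ p = 1) {n : ℕ}
    (f : GolayPt → Fin n) (hf : ∀ x, f (g x) = f x) :
    ∑ j, (Finset.univ.filter fun x => f x = j).card % p ≤ fixCard g := by
  classical
  rw [fixCard, Finset.card_eq_sum_card_fiberwise (f := f) (t := Finset.univ) fun x _ => Finset.mem_univ _]
  refine Finset.sum_le_sum fun j _ => ?_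
  rw [Finset.filter_comm]
  exact mod_le_fixed hg fun x => by simp [hf]

/-- Fixed points are unchanged by passing to a generator of the same cyclic group. -/
theorem fixCard_pow {r : Equiv.Perm GolayPt} {p i : ℕ} (hp : p.Prime) (hr : r ^ p = 1)
    (hi : ¬ p ∣ i) : fixCard (r ^ i) = fixCard r := by
  refine congrArg Finset.card (Finset.filter_congr fun x _ => ⟨fun h => ?_, fun h => ?_⟩)
  · have hmod : ∀ k : ℕ, ((r ^ i) ^ k) x = x := fun k => by
      induction k with
      | zero => rfl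
      | succ k ih => rw [pow_succ, Equiv.Perm.mul_apply, h, ih]
    obtain ⟨k, hk⟩ := Nat.exists_mul_mod_eq_one_of_coprime
      ((hp.coprime_iff_not_dvd.2 hi).symm) hp.one_lt
    have hk' := hmod k
    rw [← pow_mul, ← Nat.mod_add_div (i * k) p, hk.2, pow_add, pow_mul, hr, one_pow, mul_one,
      pow_one] at hk'
    exact hk'
  · clear hi
    induction i with
    | zero => rfl
    | succ i ih => rw [pow_succ, Equiv.Perm.mul_apply, h, ih]

/-- Two subgroups of the order of a Sylow subgroup are conjugate. -/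
theorem exists_conj_of_card {G : Type*} [Group G] [Finite G] {p k : ℕ} [Fact p.Prime]
    (hk : ¬ p ^ (k + 1) ∣ Nat.card G) {P Q : Subgroup G} (hP : Nat.card P = p ^ k)
    (hQ : Nat.card Q = p ^ k) : ∃ u : G, ∀ x ∈ P, u * x * u⁻¹ ∈ Q := by
  have hind : ∀ R : Subgroup G, Nat.card R = p ^ k → ¬ p ∣ R.index := fun R hR hd => hk (by
    rw [← R.card_mul_index, hR, pow_succ]
    exact Nat.mul_dvd_mul_left _ hd)
  obtain ⟨c, hc⟩ := MulAction.exists_smul_eq G
    ((IsPGroup.of_card hP).toSylow (hind P hP)) ((IsPGroup.of_card hQ).toSylow (hind Q hQ))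
  refine ⟨c, fun x hx => ?_⟩
  have : c * x * c⁻¹ ∈ ((c • (IsPGroup.of_card hP).toSylow (hind P hP) : Sylow p G) : Subgroup G) :=
    ⟨x, hx, rfl⟩
  rw [hc] at this
  exact this

/-- All elements of a prime order dividing the order once have as many fixed points as one of
them. -/
theorem fixCard_of_order {p : ℕ} [hp : Fact p.Prime] {c f : ℕ} (hc : good c = true)
    (h1 : isOne (powc c p) = true) (h2 : isOne c = false) (hf : fixN c = f)
    (hsq : ¬ p ^ (1 + 1) ∣ 244823040) {g : Equiv.Perm GolayPt} (hg : g ∈ M24)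
    (hord : orderOf g = p) : fixCard g = f := by
  have hr : orderOf (pm c) = p := orderOf_pm (good_ok hc) h1 h2
  have hz : ∀ {a : Equiv.Perm GolayPt} (ha : a ∈ M24), orderOf a = p →
      Nat.card (Subgroup.zpowers (⟨a, ha⟩ : M24)) = p ^ 1 := fun {a} ha h => by
    rw [Nat.card_zpowers, ← Subgroup.orderOf_coe, pow_one]; exact h
  obtain ⟨u, hu⟩ := exists_conj_of_card (G := M24) (k := 1) (by rw [card_M24]; exact hsq)
    (hz hg hord) (hz (pm_mem hc) hr)
  obtain ⟨i, hi⟩ := mem_powers_iff_mem_zpowers.2 (hu _ (Subgroup.mem_zpowers _))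
  have hi' : (pm c) ^ i = (u : Equiv.Perm GolayPt) * g * (u : Equiv.Perm GolayPt)⁻¹ :=
    congrArg Subtype.val hi
  have hpi : ¬ p ∣ i := by
    rintro ⟨m, rfl⟩
    rw [pow_mul, show (pm c) ^ p = 1 from hr ▸ pow_orderOf_eq_one _, one_pow] at hi'
    have : g = 1 := conj_eq_one_iff.1 hi'.symm
    rw [this, orderOf_one] at hord
    exact hp.out.ne_one hord.symm
  rw [← fixCard_conj g (u : Equiv.Perm GolayPt), ← hi',
    fixCard_pow hp.out (hr ▸ pow_orderOf_eq_one _) hpi, fixCard_pm (good_ok hc), hf]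

/-- The merging of known orbit pieces in a larger group. -/
theorem exists_pattern (L : Subgroup (Equiv.Perm GolayPt)) {n : ℕ} (f : GolayPt → Fin n)
    (root : Fin n → GolayPt) (hroot : ∀ i, f (root i) = i)
    (hwit : ∀ y, ∃ k ∈ L, k (root (f y)) = y) :
    ∃ c : Fin n → Fin n, (∀ i, c i ≤ i) ∧ (∀ i, c (c i) = c i) ∧
      ∀ x y, (∃ k ∈ L, k x = y) ↔ c (f x) = c (f y) := by
  classical
  let R : Fin n → Fin n → Prop := fun i j => ∃ k ∈ L, k (root i) = root j
  have hR : ∀ x y, (∃ k ∈ L, k x = y) ↔ R (f x) (f y) := by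
    intro x y
    obtain ⟨a, ha, hax⟩ := hwit x
    obtain ⟨b, hb, hby⟩ := hwit y
    constructor
    · rintro ⟨k, hk, hkx⟩
      refine ⟨b⁻¹ * k * a, mul_mem (mul_mem (inv_mem hb) hk) ha, ?_⟩
      rw [Equiv.Perm.mul_apply, Equiv.Perm.mul_apply, hax, hkx, Equiv.Perm.inv_def,
        Equiv.symm_apply_eq, hby]
    · rintro ⟨k, hk, hkx⟩
      refine ⟨b * k * a⁻¹, mul_mem (mul_mem hb hk) (inv_mem ha), ?_⟩
      have hax' : a⁻¹ x = root (f x) := by rw [Equiv.Perm.inv_def, Equiv.symm_apply_eq, hax]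
      rw [Equiv.Perm.mul_apply, Equiv.Perm.mul_apply, hax', hkx, hby]
  have hrefl : ∀ i, R i i := fun i => ⟨1, L.one_mem, rfl⟩
  have hsymm : ∀ i j, R i j → R j i := fun i j ⟨k, hk, e⟩ =>
    ⟨k⁻¹, inv_mem hk, by rw [← e, perm_inv_apply']⟩
  have htrans : ∀ i j l, R i j → R j l → R i l := fun i j l ⟨k, hk, e⟩ ⟨k', hk', e'⟩ =>
    ⟨k' * k, mul_mem hk' hk, by rw [Equiv.Perm.mul_apply, e, e']⟩
  have hne : ∀ i, (Finset.univ.filter fun j => R i j).Nonempty := fun i => ⟨i, by simp [hrefl]⟩
  let c : Fin n → Fin n := fun i => (Finset.univ.filter fun j => R i j).min' (hne i)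
  have hc : ∀ i, R i (c i) := fun i => (Finset.mem_filter.1 (Finset.min'_mem _ (hne i))).2
  have hceq : ∀ i j, R i j → c i = c j := fun i j h => by
    simp only [c]
    congr 1
    exact Finset.filter_congr fun l _ => ⟨htrans _ _ _ (hsymm _ _ h), htrans _ _ _ h⟩
  refine ⟨c, fun i => Finset.min'_le _ _ (by simp [hrefl]), fun i => (hceq _ _ (hc i)).symm,
    fun x y => (hR x y).trans ⟨hceq _ _, fun h => htrans _ _ _ (hc _) (h ▸ hsymm _ _ (hc _))⟩⟩
where
  perm_inv_apply' {g : Equiv.Perm GolayPt} {x : GolayPt} : g⁻¹ (g x) = x := by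
    rw [← Equiv.Perm.mul_apply, inv_mul_cancel, Equiv.Perm.one_apply]

/-- The sizes of merged classes. -/
def classSize {n : ℕ} (sz : Fin n → ℕ) (c : Fin n → Fin n) (j : Fin n) : ℕ :=
  ∑ i, if c i = j then sz i else 0

theorem card_class {n : ℕ} (f : GolayPt → Fin n) (sz : Fin n → ℕ)
    (hsz : ∀ i, (Finset.univ.filter fun y => f y = i).card = sz i) (c : Fin n → Fin n) (j : Fin n) :
    (Finset.univ.filter fun y => c (f y) = j).card = classSize sz c j := by
  rw [Finset.card_eq_sum_card_fiberwise (f := f) (t := Finset.univ) fun x _ => Finset.mem_univ _,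
    classSize]
  refine Finset.sum_congr rfl fun i _ => ?_
  rw [Finset.filter_filter]
  split
  · next h =>
    rw [← hsz i]
    exact congrArg _ (Finset.filter_congr fun y _ => ⟨fun e => e.2, fun e => ⟨e ▸ h, e⟩⟩)
  · next h => exact Finset.card_eq_zero.2 (Finset.filter_eq_empty_iff.2 fun y _ e => h (e.2 ▸ e.1))

/-- The divisibility and fixed point constraints on the merging. -/
theorem pattern_facts {L : Subgroup (Equiv.Perm GolayPt)} {n : ℕ} {f : GolayPt → Fin n}
    {root : Fin n → GolayPt} (hroot : ∀ i, f (root i) = i) {sz : Fin n → ℕ}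
    (hsz : ∀ i, (Finset.univ.filter fun y => f y = i).card = sz i) {c : Fin n → Fin n}
    (hc : ∀ x y, (∃ k ∈ L, k x = y) ↔ c (f x) = c (f y)) {N p F : ℕ} [Fact p.Prime]
    (hN : Nat.card L = N) {g : Equiv.Perm GolayPt} (hg : g ∈ L) (hgp : g ^ p = 1)
    (hF : fixCard g = F) :
    (∀ j, c j = j → classSize sz c j ∣ N) ∧ ∑ j, classSize sz c j % p ≤ F := by
  constructor
  · intro j hj
    rw [← card_class f sz hsz, ← hN]
    have horb : MulAction.orbit L (root j) =
        ↑(Finset.univ.filter fun y => c (f y) = j) := by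
      ext y
      rw [Finset.coe_filter, Set.mem_ofPred_eq]
      have h := hc (root j) y
      rw [hroot, hj] at h
      exact ⟨fun ⟨⟨k, hk⟩, e⟩ => ⟨Finset.mem_univ _, (h.1 ⟨k, hk, e⟩).symm⟩,
        fun e => let ⟨k, hk, e'⟩ := h.2 e.2.symm; ⟨⟨k, hk⟩, e'⟩⟩
    rw [← Set.ncard_coe_finset, ← horb, ← MulAction.index_stabilizer]
    exact Subgroup.index_dvd_card _
  · simp only [← card_class f sz hsz, ← hF]
    exact sum_mod_le hgp (fun x => c (f x)) fun x => ((hc x (g x)).1 ⟨g, hg, rfl⟩).symm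

theorem exists_of_order {L : Subgroup (Equiv.Perm GolayPt)} {p : ℕ} [Fact p.Prime]
    (h : p ∣ Nat.card L) : ∃ g ∈ L, orderOf g = p := by
  obtain ⟨g, hg⟩ := exists_prime_orderOf_dvd_card' p h
  exact ⟨g, g.2, by rw [Subgroup.orderOf_coe]; exact hg⟩

end CfsgLib.M24Index
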